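import Mathlib.RingTheory.Etale.Finite
import Mathlib.RingTheory.Flat.FaithfullyFlat.Algebra
import Mathlib.RingTheory.LocalRing.Module
import Mathlib.RingTheory.Finiteness.ModuleFinitePresentation
import Mathlib.FieldTheory.IsAlgClosed.AlgebraicClosure
import Mathlib.LinearAlgebra.LinearIndependent.Basic

/-!
# Finite etale algebras with a simply transitive action on geometric points
-/

set_option autoImplicit false
set_option linter.style.haveILetI false
set_option maxHeartbeats 800000

universe u v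

open TensorProduct

noncomputable section

namespace PrincipalCoverLib

variable {A B : Type u} [CommRing A] [CommRing B] [Algebra A B]

/-- A module vanishing at all geometric points vanishes. -/
theorem subsingleton_of_geometric (Q : Type u) [AddCommGroup Q] [Module A Q] [Module.Finite A Q]
    (H : ∀ (Ω : Type u) [Field Ω] [IsAlgClosed Ω] [Algebra A Ω], Subsingleton (Ω ⊗[A] Q)) : Subsingleton Q := by
  rw [← Module.support_eq_empty_iff (R := A), Set.eq_empty_iff_forall_notMem]
  intro p hp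
  rw [Module.mem_support_iff_nontrivial_residueField_tensorProduct] at hp
  let κ := p.asIdeal.ResidueField
  haveI : Module.Finite κ (κ ⊗[A] Q) := inferInstance
  haveI : Subsingleton ((AlgebraicClosure κ) ⊗[κ] (κ ⊗[A] Q)) :=
    haveI := H (AlgebraicClosure κ)
    (AlgebraTensorModule.cancelBaseChange A κ κ (AlgebraicClosure κ) Q).toEquiv.subsingleton
  haveI : Subsingleton (κ ⊗[A] Q) := Module.FaithfullyFlat.lTensor_reflects_triviality κ (AlgebraicClosure κ) _
  exact not_nontrivial (κ ⊗[A] Q) hp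

variable [Module.Finite A B] [Algebra.Etale A B]

/-- An element of a geometric fibre is determined by its values at the points. -/
theorem eq_tmul_one_of_const (Ω : Type u) [Field Ω] [IsAlgClosed Ω] [Algebra A Ω] (z : Ω ⊗[A] B) (v : Ω)
    (h : ∀ χ : Ω ⊗[A] B →ₐ[Ω] Ω, χ z = v) : z = v ⊗ₜ 1 := by
  obtain ⟨n, ⟨e⟩⟩ := Algebra.IsFiniteSplit.nonempty_algEquiv_fun Ω (Ω ⊗[A] B)
  refine e.injective (funext fun i => ?_)
  have h1 : ((Pi.evalAlgHom Ω (fun _ => Ω) i).comp e.toAlgHom) z = v := h _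
  have h2 : ((Pi.evalAlgHom Ω (fun _ => Ω) i).comp e.toAlgHom) (algebraMap Ω (Ω ⊗[A] B) v) = v := AlgHom.commutes _ v
  exact h1.trans h2.symm

theorem exists_point [Module.FaithfullyFlat A B] (Ω : Type u) [Field Ω] [IsAlgClosed Ω] [Algebra A Ω] :
    Nonempty (B →ₐ[A] Ω) := by
  obtain ⟨n, ⟨e⟩⟩ := Algebra.IsFiniteSplit.nonempty_algEquiv_fun Ω (Ω ⊗[A] B)
  haveI : Nontrivial (Fin n → Ω) := e.symm.toEquiv.nontrivial
  have hn : 0 < n := Nat.pos_of_ne_zero fun h => by
    subst h
    exact not_subsingleton (Fin 0 → Ω) inferInstance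
  exact ⟨(((Pi.evalAlgHom Ω (fun _ => Ω) ⟨0, hn⟩).comp e.toAlgHom).restrictScalars A).comp
    Algebra.TensorProduct.includeRight⟩

section action

variable {G : Type v} [CommGroup G] [Fintype G] (σ : G → (B →ₐ[A] B))

/-- The points are acted on simply transitively. -/
def IsFree : Prop :=
  ∀ (Ω : Type u) [Field Ω] [IsAlgClosed Ω] [Algebra A Ω] (s t : B →ₐ[A] Ω), ∃! g, s.comp (σ g) = t

variable {σ}

theorem exists_sum_ne_zero (hσ : IsFree σ) (Ω : Type u) [Field Ω] [IsAlgClosed Ω] [Algebra A Ω] (s : B →ₐ[A] Ω)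
    (c : G → Ω) {g₀ : G} (hc : c g₀ ≠ 0) : ∃ y : B, ∑ g, c g * s (σ g y) ≠ 0 := by
  by_contra! h
  have hinj : Function.Injective fun g : G => ((s.comp (σ g) : B →ₐ[A] Ω) : B →* Ω) := fun g g' hgg => by
    obtain ⟨g'', -, hu⟩ := hσ Ω s (s.comp (σ g))
    exact (hu g rfl).trans (hu g' (AlgHom.ext fun b => (DFunLike.congr_fun hgg b).symm)).symm
  have hli := (linearIndependent_monoidHom B Ω).comp _ hinj
  exact hc (Fintype.linearIndependent_iff.1 hli c (funext fun y => by
    rw [Finset.sum_apply]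
    exact h y) g₀)

variable (hmul : ∀ g h : G, σ (g * h) = (σ g).comp (σ h))
include hmul

theorem sum_invariant (g : G) (y : B) : σ g (∑ h, σ h y) = ∑ h, σ h y := by
  rw [map_sum]
  refine Fintype.sum_equiv (Equiv.mulLeft g) _ _ fun h => ?_
  rw [Equiv.coe_mulLeft, hmul]
  rfl

omit hmul in
/-- The geometric points of `B` above a maximal ideal. -/
theorem exists_point_of_maximal (n : Ideal B) [n.IsMaximal] : ∃ (Ω : Type u) (_ : Field Ω) (_ : IsAlgClosed Ω)
    (_ : Algebra A Ω) (s : B →ₐ[A] Ω), RingHom.ker s = n := by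
  letI := Ideal.Quotient.field n
  let f : B →+* AlgebraicClosure (B ⧸ n) := (algebraMap (B ⧸ n) _).comp (Ideal.Quotient.mk n)
  letI : Algebra A (AlgebraicClosure (B ⧸ n)) := (f.comp (algebraMap A B)).toAlgebra
  refine ⟨AlgebraicClosure (B ⧸ n), inferInstance, inferInstance, inferInstance, ⟨f, fun a => rfl⟩, ?_⟩
  show RingHom.ker f = n
  rw [RingHom.ker_comp_of_injective _ (RingHom.injective _), Ideal.mk_ker]

theorem exists_trace_one (hσ : IsFree σ) : ∃ y : B, ∑ g, σ g y = 1 := by
  classical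
  -- the invariants
  let C : Subalgebra A B :=
    { carrier := {b | ∀ g, σ g b = b}
      mul_mem' := fun {a b} ha hb g => by rw [map_mul, ha g, hb g]
      add_mem' := fun {a b} ha hb g => by rw [map_add, ha g, hb g]
      algebraMap_mem' := fun r g => AlgHom.commutes _ r }
  let J : Ideal C :=
    { carrier := {c | ∃ y, (c : B) = ∑ g, σ g y}
      add_mem' := by
        rintro a b ⟨x, hx⟩ ⟨y, hy⟩
        exact ⟨x + y, by simp [hx, hy, Finset.sum_add_distrib]⟩
      zero_mem' := ⟨0, by simp⟩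
      smul_mem' := by
        rintro c a ⟨x, hx⟩
        refine ⟨(c : B) * x, ?_⟩
        simp only [smul_eq_mul, MulMemClass.coe_mul, hx, Finset.mul_sum, map_mul]
        exact Finset.sum_congr rfl fun g _ => by rw [c.2 g] }
  suffices hJ : J = ⊤ by
    obtain ⟨y, hy⟩ := hJ.ge (Submodule.mem_top (x := 1))
    exact ⟨y, hy.symm⟩
  by_contra hne
  obtain ⟨m, hm, hJm⟩ := J.exists_le_maximal hne
  haveI : Module.Finite C B := Module.Finite.of_restrictScalars_finite A C B
  haveI : Algebra.IsIntegral C B := Algebra.IsIntegral.of_finite C B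
  obtain ⟨n, hn, hnm⟩ := Ideal.exists_ideal_over_maximal_of_isIntegral (S := B) m (by
    rw [(RingHom.injective_iff_ker_eq_bot _).1 (Subtype.val_injective : Function.Injective (algebraMap C B))]
    exact bot_le)
  haveI := hn
  obtain ⟨Ω, _, _, _, s, hs⟩ := exists_point_of_maximal (A := A) n
  obtain ⟨y, hy⟩ := exists_sum_ne_zero hσ Ω s (fun _ => 1) (g₀ := 1) one_ne_zero
  refine hy ?_
  have hmem : (⟨∑ g, σ g y, fun g => sum_invariant hmul g y⟩ : C) ∈ n.comap (algebraMap C B) :=
    hnm.ge (hJm ⟨y, rfl⟩)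
  rw [← hs] at hmem
  have h2 : s (∑ g, σ g y) = 0 := hmem
  rw [map_sum] at h2
  simpa using h2

/-- The invariants of a free action are the base ring. -/
theorem exists_algebraMap_eq (hσ : IsFree σ) {c : B} (hc : ∀ g, σ g c = c) : ∃ a, algebraMap A B a = c := by
  classical
  obtain ⟨y, hy⟩ := exists_trace_one hmul hσ
  let e : B →ₗ[A] B := ∑ g, (σ g).toLinearMap ∘ₗ LinearMap.mulLeft A y
  have he : ∀ b, e b = ∑ g, σ g (y * b) := fun b => by simp [e, LinearMap.sum_apply]
  have hinv : ∀ g b, σ g (e b) = e b := fun g b => by rw [he]; exact sum_invariant hmul g _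
  have hfix : ∀ b, (∀ g, σ g b = b) → e b = b := fun b hb => by
    rw [he]
    conv_rhs => rw [← one_mul b, ← hy, Finset.sum_mul]
    exact Finset.sum_congr rfl fun g _ => by rw [map_mul, hb g]
  let N : Submodule A (LinearMap.range e) := Submodule.span A {⟨e 1, ⟨1, rfl⟩⟩}
  let h : B →ₗ[A] (LinearMap.range e ⧸ N) := N.mkQ ∘ₗ e.rangeRestrict
  have hh : Function.Surjective h := N.mkQ_surjective.comp e.surjective_rangeRestrict
  haveI : Module.Finite A (LinearMap.range e ⧸ N) := Module.Finite.of_surjective h hh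
  haveI hQ : Subsingleton (LinearMap.range e ⧸ N) := by
    refine subsingleton_of_geometric (A := A) _ fun Ω _ _ _ => ?_
    refine ⟨fun u v => ?_⟩
    suffices H : ∀ w, w = (0 : Ω ⊗[A] (LinearMap.range e ⧸ N)) from (H u).trans (H v).symm
    intro w
    obtain ⟨z, rfl⟩ := LinearMap.lTensor_surjective Ω hh w
    have hhe : h ∘ₗ e = h := LinearMap.ext fun b => congrArg N.mkQ (Subtype.ext (hfix _ fun g => hinv g b))
    rw [← hhe, LinearMap.lTensor_comp, LinearMap.comp_apply]
    by_cases hne : Nonempty (Ω ⊗[A] B →ₐ[Ω] Ω)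
    swap
    · obtain ⟨n, ⟨eq⟩⟩ := Algebra.IsFiniteSplit.nonempty_algEquiv_fun Ω (Ω ⊗[A] B)
      haveI : IsEmpty (Fin n) := ⟨fun i => hne ⟨(Pi.evalAlgHom Ω (fun _ => Ω) i).comp eq.toAlgHom⟩⟩
      haveI : Subsingleton (Ω ⊗[A] B) := eq.toEquiv.subsingleton
      rw [Subsingleton.elim (LinearMap.lTensor Ω e z) 0, map_zero]
    obtain ⟨χ₀⟩ := hne
    have key : LinearMap.lTensor Ω e z = χ₀ (LinearMap.lTensor Ω e z) ⊗ₜ 1 := by
      refine eq_tmul_one_of_const Ω _ _ fun χ => ?_
      obtain ⟨g, hg, -⟩ := hσ Ω (((χ₀.restrictScalars A).comp Algebra.TensorProduct.includeRight))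
        ((χ.restrictScalars A).comp Algebra.TensorProduct.includeRight)
      have hχ : χ = χ₀.comp (Algebra.TensorProduct.map (AlgHom.id Ω Ω) (σ g)) := by
        ext b
        exact (DFunLike.congr_fun hg b).symm
      rw [hχ, AlgHom.comp_apply]
      refine congrArg χ₀ ?_
      have h2 : (σ g).toLinearMap ∘ₗ e = e := LinearMap.ext fun b => hinv g b
      conv_rhs => rw [← h2, LinearMap.lTensor_comp, LinearMap.comp_apply]
      rfl
    rw [key, LinearMap.lTensor_tmul]
    have h10 : h 1 = 0 := (Submodule.Quotient.mk_eq_zero N).2 (Submodule.subset_span rfl)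
    rw [h10, tmul_zero]
  have h0 : h c = 0 := Subsingleton.elim _ _
  obtain ⟨a, ha⟩ := Submodule.mem_span_singleton.1 ((Submodule.Quotient.mk_eq_zero N).1 h0)
  refine ⟨a, ?_⟩
  have h2 : a • e 1 = e c := congrArg Subtype.val ha
  rw [hfix 1 fun g => map_one _, hfix c hc] at h2
  rw [← h2, Algebra.smul_def, mul_one]

end action

/-- A morphism of finite etale algebras which is bijective on geometric points is bijective. -/
theorem bijective_of_points {K : Type u} [CommRing K] [Algebra A K] [Module.Finite A K] [Algebra.Etale A K]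
    (φ : K →ₐ[A] B)
    (H : ∀ (Ω : Type u) [Field Ω] [IsAlgClosed Ω] [Algebra A Ω],
      Function.Bijective fun s : B →ₐ[A] Ω => s.comp φ) : Function.Bijective φ := by
  classical
  have hb : ∀ (Ω : Type u) [Field Ω] [IsAlgClosed Ω] [Algebra A Ω],
      Function.Bijective (LinearMap.lTensor Ω φ.toLinearMap) := fun Ω _ _ _ => by
    obtain ⟨n, ⟨eK⟩⟩ := Algebra.IsFiniteSplit.nonempty_algEquiv_fun Ω (Ω ⊗[A] K)
    obtain ⟨m, ⟨eB⟩⟩ := Algebra.IsFiniteSplit.nonempty_algEquiv_fun Ω (Ω ⊗[A] B)
    let Φ : Ω ⊗[A] K →ₐ[Ω] Ω ⊗[A] B := Algebra.TensorProduct.map (AlgHom.id Ω Ω) φ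
    let F : (Fin n → Ω) →ₐ[Ω] (Fin m → Ω) := (eB.toAlgHom.comp Φ).comp eK.symm.toAlgHom
    let pts {X : Type u} [CommRing X] [Algebra A X] : (Ω ⊗[A] X →ₐ[Ω] Ω) ≃ (X →ₐ[A] Ω) :=
      { toFun := fun χ => (χ.restrictScalars A).comp Algebra.TensorProduct.includeRight
        invFun := fun s => Algebra.TensorProduct.lift (Algebra.ofId Ω Ω) s fun _ _ => Commute.all _ _
        left_inv := fun χ => by ext x; simp
        right_inv := fun s => by ext x; simp }
    have hF : Function.Bijective fun χ : (Fin m → Ω) →ₐ[Ω] Ω => χ.comp F := by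
      let E : ∀ {X : Type u} [CommRing X] [Algebra A X] {k : ℕ} (_ : Ω ⊗[A] X ≃ₐ[Ω] (Fin k → Ω)),
          ((Fin k → Ω) →ₐ[Ω] Ω) ≃ (X →ₐ[A] Ω) := fun {X} _ _ {k} e =>
        ((AlgEquiv.arrowCongr e.symm AlgEquiv.refl)).trans pts
      have h3 : (fun χ : (Fin m → Ω) →ₐ[Ω] Ω => χ.comp F) =
          (E eK).symm ∘ (fun s : B →ₐ[A] Ω => s.comp φ) ∘ (E eB) := by
        funext χ
        refine (E eK).injective ?_
        rw [Function.comp_apply, Equiv.apply_symm_apply]
        ext x
        simp [E, pts, F, Φ, AlgEquiv.arrowCongr]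
      rw [h3]
      exact (E eK).symm.bijective.comp ((H Ω).comp (E eB).bijective)
    have hev : ∀ {k : ℕ} (χ : (Fin k → Ω) →ₐ[Ω] Ω), ∃ i, χ = Pi.evalAlgHom Ω (fun _ => Ω) i := fun {k} χ => by
      obtain ⟨i, hi⟩ : ∃ i, χ (Pi.single i 1) ≠ 0 := by
        by_contra! hne
        have h1 : χ (∑ i, Pi.single i 1) = 0 := by rw [map_sum]; exact Finset.sum_eq_zero fun i _ => hne i
        rw [Finset.univ_sum_single, show (fun _ : Fin k => (1 : Ω)) = 1 from rfl, map_one] at h1
        exact one_ne_zero h1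
      refine ⟨i, AlgHom.ext fun x => mul_left_cancel₀ hi ?_⟩
      rw [← map_mul, show (Pi.single i 1 : Fin k → Ω) * x = x i • Pi.single i 1 by
        ext j
        by_cases hj : j = i <;> simp [hj], map_smul, smul_eq_mul, mul_comm]
      rfl
    choose τ hτ using fun i : Fin m => hev ((Pi.evalAlgHom Ω (fun _ => Ω) i).comp F)
    have hinj : Function.Injective τ := fun i j hij => by
      have h4 : Pi.evalAlgHom Ω (fun _ : Fin m => Ω) i = Pi.evalAlgHom Ω (fun _ => Ω) j :=
        hF.1 ((hτ i).trans ((congrArg (Pi.evalAlgHom Ω fun _ => Ω) hij).trans (hτ j).symm))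
      by_contra hne
      have := DFunLike.congr_fun h4 (Pi.single i 1)
      simp [Ne.symm hne] at this
    have hsurj : Function.Surjective τ := fun k => by
      obtain ⟨χ, hχ⟩ := hF.2 (Pi.evalAlgHom Ω (fun _ => Ω) k)
      obtain ⟨i, rfl⟩ := hev χ
      refine ⟨i, ?_⟩
      by_contra hne
      have := DFunLike.congr_fun ((hτ i).symm.trans hχ) (Pi.single k 1)
      simp [hne] at this
    have hFb : Function.Bijective F := by
      have h5 : ∀ x i, F x i = x (τ i) := fun x i => DFunLike.congr_fun (hτ i) x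
      refine ⟨fun x x' hx => funext fun k => ?_, fun z => ⟨fun k => z (Function.surjInv hsurj k), funext fun i => ?_⟩⟩
      · obtain ⟨i, rfl⟩ := hsurj k
        exact (h5 x i).symm.trans ((congrFun hx i).trans (h5 x' i))
      · exact (h5 _ i).trans (congrArg z (hinj (Function.surjInv_eq hsurj _)))
    have hΦ : Function.Bijective Φ := by
      have h6 : (Φ : Ω ⊗[A] K → Ω ⊗[A] B) = eB.symm ∘ F ∘ eK := funext fun x => by simp [F]
      rw [h6]
      exact eB.symm.bijective.comp (hFb.comp eK.bijective)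
    exact hΦ
  have hsurjφ : Function.Surjective φ.toLinearMap := by
    rw [← LinearMap.range_eq_top, ← Submodule.Quotient.subsingleton_iff]
    refine subsingleton_of_geometric (A := A) _ fun Ω _ _ _ => ⟨fun u v => ?_⟩
    suffices h0 : ∀ w, w = (0 : Ω ⊗[A] (B ⧸ LinearMap.range φ.toLinearMap)) from (h0 u).trans (h0 v).symm
    intro w
    obtain ⟨z, rfl⟩ := LinearMap.lTensor_surjective Ω (Submodule.mkQ_surjective _) w
    obtain ⟨z', rfl⟩ := (hb Ω).2 z
    rw [← LinearMap.comp_apply, ← LinearMap.lTensor_comp, LinearMap.range_mkQ_comp, LinearMap.lTensor_zero,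
      LinearMap.zero_apply]
  refine ⟨?_, hsurjφ⟩
  haveI : Module.FinitePresentation A B := Module.FinitePresentation.of_finite_of_finitePresentation A B
  haveI : Module.Projective A B := Module.Flat.projective_of_finitePresentation
  obtain ⟨t, ht⟩ := φ.toLinearMap.exists_rightInverse_of_surjective (LinearMap.range_eq_top.2 hsurjφ)
  let N := LinearMap.ker φ.toLinearMap
  let r : K →ₗ[A] N := (LinearMap.id - t ∘ₗ φ.toLinearMap).codRestrict N fun x => by
    show φ.toLinearMap (x - t (φ.toLinearMap x)) = 0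
    rw [map_sub, ← LinearMap.comp_apply (g := t), ht, LinearMap.id_apply, sub_self]
  have hr : r ∘ₗ N.subtype = LinearMap.id := LinearMap.ext fun x => Subtype.ext (by
    show (x : K) - t (φ.toLinearMap x) = x
    rw [show φ.toLinearMap x = 0 from x.2, map_zero, sub_zero])
  haveI : Module.Finite A N := Module.Finite.of_surjective r fun x => ⟨x, LinearMap.congr_fun hr x⟩
  haveI : Subsingleton N := subsingleton_of_geometric (A := A) _ fun Ω _ _ _ => ⟨fun u v => by
    suffices h0 : ∀ w : Ω ⊗[A] N, w = 0 from (h0 u).trans (h0 v).symm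
    intro w
    have h7 : LinearMap.lTensor Ω N.subtype w = 0 := (hb Ω).1 (by
      rw [map_zero, ← LinearMap.comp_apply, ← LinearMap.lTensor_comp, LinearMap.comp_ker_subtype,
        LinearMap.lTensor_zero, LinearMap.zero_apply])
    rw [← LinearMap.lTensor_id_apply Ω N w, ← hr, LinearMap.lTensor_comp, LinearMap.comp_apply, h7, map_zero]⟩
  intro x x' hx
  have h8 : x - x' ∈ N := by
    show φ.toLinearMap (x - x') = 0
    rw [map_sub, sub_eq_zero]
    exact hx
  exact sub_eq_zero.1 (congrArg Subtype.val (Subsingleton.elim (⟨_, h8⟩ : N) 0))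

end PrincipalCoverLib
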