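import Groth.Prelude.Def_SGA1t
import Groth.Agent.PrincipalCoverLib.Alg
import Mathlib.RingTheory.Etale.StandardEtale
import Mathlib.FieldTheory.Separable

/-!
# Artin-Schreier theory over a ring
-/

set_option autoImplicit false
set_option linter.style.haveILetI false
set_option maxHeartbeats 800000

universe u

open Polynomial

noncomputable section

namespace PrincipalCoverLib

/-- A monic separable polynomial gives an etale algebra. -/
theorem etale_quotient {A : Type u} [CommRing A] (f : A[X]) (hm : f.Monic) (hs : f.Separable) :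
    Algebra.Etale A (A[X] ⧸ Ideal.span {f}) := by
  obtain ⟨a, b, hab⟩ := hs
  let P : StandardEtalePair A := ⟨f, hm, 1, b, a, 0, by rw [pow_zero]; linear_combination hab⟩
  have hu : IsUnit (AdjoinRoot.mk P.f P.g) := by simp [P]
  let e : AdjoinRoot f ≃ₐ[A] P.Ring :=
    ((IsLocalization.atUnits (AdjoinRoot P.f) (Submonoid.powers (AdjoinRoot.mk P.f P.g))
      (S := Localization.Away (AdjoinRoot.mk P.f P.g))
      (by rintro _ ⟨k, rfl⟩; exact hu.pow k)).restrictScalars A).trans P.equivAwayAdjoinRoot.symm
  exact Algebra.Etale.of_equiv e.symm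

variable {A B : Type u} [CommRing A] [CommRing B] [Algebra A B] [Module.Finite A B] [Algebra.Etale A B]
  [Module.FaithfullyFlat A B]

theorem exists_artinSchreier (p : ℕ) [Fact p.Prime] [CharP A p] (σ : Multiplicative (ZMod p) → (B →ₐ[A] B))
    (hmul : ∀ g h, σ (g * h) = (σ g).comp (σ h)) (hσ : IsFree σ) :
    ∃ (a : A) (f : SGA1t.artinSchreier A p a ≃ₐ[A] B),
      ∀ (j : ZMod p) k, σ (Multiplicative.ofAdd j) (f k) = f (SGA1t.artinSchreierShift A p a j k) := by
  classical
  haveI : NeZero p := ⟨(Fact.out : p.Prime).ne_zero⟩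
  have hinjA : Function.Injective (algebraMap A B) := FaithfulSMul.algebraMap_injective A B
  haveI : CharP B p := charP_of_injective_algebraMap hinjA p
  let c : ZMod p →+* B := ZMod.castHom (dvd_refl p) B
  let cA : ZMod p →+* A := ZMod.castHom (dvd_refl p) A
  have hc : ∀ j, algebraMap A B (cA j) = c j := fun j =>
    RingHom.congr_fun (Subsingleton.elim ((algebraMap A B).comp cA) c) j
  obtain ⟨y, hy⟩ := exists_trace_one hmul hσ
  let x : B := -∑ g : Multiplicative (ZMod p), c g.toAdd * σ g y
  have hx : ∀ h, σ h x = x + c h.toAdd := fun h => by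
    simp only [x, map_neg, map_sum, map_mul]
    have e1 : ∀ g : Multiplicative (ZMod p), σ h (c g.toAdd) * σ h (σ g y) =
        (c (h * g).toAdd - c h.toAdd) * σ (h * g) y := fun g => by
      rw [← hc g.toAdd, AlgHom.commutes, hc, toAdd_mul, map_add, add_sub_cancel_left, hmul]
      rfl
    rw [Fintype.sum_equiv (Equiv.mulLeft h) _ (fun g => (c g.toAdd - c h.toAdd) * σ g y) e1]
    simp only [sub_mul, Finset.sum_sub_distrib, ← Finset.mul_sum, hy, mul_one]
    ring
  obtain ⟨a, ha⟩ := exists_algebraMap_eq hmul hσ (c := x ^ p - x) fun h => by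
    rw [map_sub, map_pow, hx, add_pow_char, ← map_pow c, ZMod.pow_card]
    ring
  let F : A[X] := X ^ p - X - C a
  have hdeg : (X + C a : A[X]).degree < (p : ℕ) :=
    lt_of_le_of_lt (degree_add_le _ _) (max_lt (lt_of_le_of_lt degree_X_le (by exact_mod_cast (Fact.out : p.Prime).one_lt))
      (lt_of_le_of_lt degree_C_le (by exact_mod_cast (Fact.out : p.Prime).pos)))
  have hm : F.Monic := by
    show (X ^ p - X - C a : A[X]).Monic
    rw [sub_sub]
    exact monic_X_pow_sub hdeg
  have hsep : F.Separable := by
    show IsCoprime F (derivative F)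
    have hd : derivative F = -1 := by simp [F, derivative_X_pow, CharP.cast_eq_zero]
    rw [hd]
    exact ⟨0, -1, by ring⟩
  haveI : Module.Finite A (SGA1t.artinSchreier A p a) := hm.finite_quotient
  haveI : Algebra.Etale A (SGA1t.artinSchreier A p a) := etale_quotient F hm hsep
  have hxF : aeval x F = 0 := by simp [F, ← ha]
  let φ : SGA1t.artinSchreier A p a →ₐ[A] B :=
    Ideal.Quotient.liftₐ _ (aeval x) fun z hz => by
      obtain ⟨w, rfl⟩ := Ideal.mem_span_singleton'.1 hz
      rw [map_mul, hxF, mul_zero]
  let T : SGA1t.artinSchreier A p a := Ideal.Quotient.mk _ X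
  have hφT : φ T = x := by
    show aeval x (X : A[X]) = x
    rw [aeval_X]
  have hext : ∀ {R : Type u} [CommRing R] [Algebra A R] (u v : SGA1t.artinSchreier A p a →ₐ[A] R),
      u T = v T → u = v := fun {R} _ _ u v h =>
    Ideal.Quotient.algHom_ext A (Polynomial.algHom_ext h)
  have hφ : Function.Bijective φ := bijective_of_points φ fun Ω _ _ _ => by
    obtain ⟨s₀⟩ := exists_point (A := A) (B := B) Ω
    haveI : CharP Ω p := by
      refine (CharP.charP_iff_prime_eq_zero Fact.out).2 ?_
      rw [← map_natCast (algebraMap A Ω), CharP.cast_eq_zero, map_zero]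
    let cΩ : ZMod p →+* Ω := ZMod.castHom (dvd_refl p) Ω
    have hcΩ : ∀ (s : B →ₐ[A] Ω) j, s (c j) = cΩ j := fun s j =>
      RingHom.congr_fun (Subsingleton.elim ((s : B →+* Ω).comp c) cΩ) j
    refine ⟨fun s t hst => ?_, fun χ => ?_⟩
    · obtain ⟨g, hg, -⟩ := hσ Ω s t
      obtain ⟨g₁, -, hu⟩ := hσ Ω s s
      have h1 : t x = s x + cΩ g.toAdd := by
        rw [← hg, AlgHom.comp_apply, hx, map_add, hcΩ]
      have h2 : t x = s x := by
        rw [← hφT]
        exact (DFunLike.congr_fun hst T).symm
      have h3 : g = 1 := by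
        have h4 : cΩ g.toAdd = 0 := by linear_combination h2 - h1
        exact Multiplicative.toAdd.injective ((cΩ.injective.eq_iff' (map_zero cΩ)).1 h4)
      have hone : s.comp (σ 1) = s := by
        obtain ⟨g₂, hg₂, -⟩ := hσ Ω s s
        have h5 : g₂ = 1 := by
          have h6 : s x + cΩ g₂.toAdd = s x := by
            have := DFunLike.congr_fun hg₂ x
            rw [AlgHom.comp_apply, hx, map_add, hcΩ] at this
            exact this
          exact Multiplicative.toAdd.injective ((cΩ.injective.eq_iff' (map_zero cΩ)).1 (add_eq_left.1 h6))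
        rw [← h5]; exact hg₂
      rw [← hg, h3, hone]
    · let r := χ T
      have hroot : ∀ (χ' : SGA1t.artinSchreier A p a →ₐ[A] Ω), χ' T ^ p - χ' T = algebraMap A Ω a := fun χ' => by
        have h0 : (Ideal.Quotient.mkₐ A (Ideal.span {F}) F) = 0 :=
          Ideal.Quotient.eq_zero_iff_mem.2 (Ideal.mem_span_singleton_self F)
        have h1 : aeval ((χ'.comp (Ideal.Quotient.mkₐ A _)) X) F = 0 := by
          rw [aeval_algHom_apply, aeval_X_left_apply, AlgHom.comp_apply]
          exact (congrArg χ' h0).trans (map_zero χ')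
        simp only [F, map_sub, map_pow, aeval_X, aeval_C, sub_eq_zero] at h1
        exact h1
      have hz : (r - s₀ x) ^ p - (r - s₀ x) = 0 := by
        have h2 := hroot χ
        have h3 := hroot (s₀.comp φ)
        rw [AlgHom.comp_apply, hφT] at h3
        rw [sub_pow_char]
        linear_combination h2 - h3
      have hmem : r - s₀ x ∈ Set.range cΩ := by
        let G : Polynomial Ω := X ^ p - X
        have hG : G ≠ 0 := (monic_X_pow_sub (p := (X : Polynomial Ω)) (lt_of_le_of_lt degree_X_le
          (by exact_mod_cast (Fact.out : p.Prime).one_lt))).ne_zero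
        have hsub : Finset.univ.image cΩ ⊆ G.roots.toFinset := by
          intro z hz
          obtain ⟨j, -, rfl⟩ := Finset.mem_image.1 hz
          rw [Multiset.mem_toFinset, mem_roots hG]
          simp [G, ← map_pow]
        have heq := Finset.eq_of_subset_of_card_le hsub (by
          rw [Finset.card_image_of_injective _ cΩ.injective, Finset.card_univ, ZMod.card]
          refine (Multiset.toFinset_card_le _).trans ((card_roots' G).trans ?_)
          exact (natDegree_sub_le _ _).trans (by simp [(Fact.out : p.Prime).one_lt.le]))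
        have : r - s₀ x ∈ G.roots.toFinset := by
          rw [Multiset.mem_toFinset, mem_roots hG]
          simpa [G] using hz
        rw [← heq, Finset.mem_image] at this
        obtain ⟨j, -, hj⟩ := this
        exact ⟨j, hj⟩
      obtain ⟨j, hj⟩ := hmem
      refine ⟨s₀.comp (σ (Multiplicative.ofAdd j)), hext _ _ ?_⟩
      simp only [AlgHom.comp_apply, hφT, hx, map_add, hcΩ, toAdd_ofAdd, hj]
      exact add_sub_cancel _ _
  refine ⟨a, AlgEquiv.ofBijective φ hφ, fun j k => ?_⟩
  obtain ⟨q, rfl⟩ := Ideal.Quotient.mk_surjective k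
  show σ (Multiplicative.ofAdd j) (aeval x q) = φ (SGA1t.artinSchreierShift A p a j (Ideal.Quotient.mk _ q))
  rw [← aeval_algHom_apply, hx]
  show _ = aeval x (aeval (X + C (cA j)) q)
  rw [← aeval_algHom_apply, toAdd_ofAdd]
  simp [hc]

end PrincipalCoverLib
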