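import Groth.Prelude.Def_SGA1t
import Groth.Agent.PrincipalCoverLib.AS
import Mathlib.RingTheory.MvPolynomial.Basic
import Mathlib.Algebra.MvPolynomial.Equiv
import Mathlib.RingTheory.RootsOfUnity.PrimitiveRoots

/-!
# Kummer theory over a local ring
-/

set_option autoImplicit false
set_option linter.style.haveILetI false
set_option maxHeartbeats 800000

universe u

noncomputable section

namespace PrincipalCoverLib

open IsLocalRing

variable {A : Type u} [CommRing A] [IsLocalRing A] {n : ℕ}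

/-- Roots of unity of invertible order congruent to one are one. -/
theorem eq_one_of_sub_one_mem (hn : IsUnit (n : A)) (g : ↥(rootsOfUnity n A))
    (h : ((g : Aˣ) : A) - 1 ∈ maximalIdeal A) : g = 1 := by
  have hg : ((g : Aˣ) : A) ^ n = 1 := by
    rw [← Units.val_pow_eq_pow_val, (mem_rootsOfUnity n _).1 g.2, Units.val_one]
  have hu : IsUnit (∑ i ∈ Finset.range n, ((g : Aˣ) : A) ^ i) := by
    rw [← IsLocalRing.residue_ne_zero_iff_isUnit, map_sum]
    have h1 : residue A ((g : Aˣ) : A) = 1 := by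
      rw [← sub_eq_zero, ← map_one (residue A), ← map_sub, residue_eq_zero_iff]
      exact h
    simp only [map_pow, h1, one_pow, Finset.sum_const, Finset.card_range, nsmul_eq_mul, mul_one]
    rw [← map_natCast (residue A)]
    exact (IsLocalRing.residue_ne_zero_iff_isUnit _).2 hn
  have h2 := mul_geom_sum ((g : Aˣ) : A) n
  rw [hg, sub_self, hu.mul_left_eq_zero, sub_eq_zero] at h2
  exact Subtype.ext (Units.ext h2)

theorem injective_map (hn : IsUnit (n : A)) {R : Type u} [CommRing R] [IsDomain R] (f : A →+* R) :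
    Function.Injective fun g : ↥(rootsOfUnity n A) => f ((g : Aˣ) : A) := by
  intro g h hgh
  rw [← div_eq_one]
  refine eq_one_of_sub_one_mem hn _ (le_maximalIdeal (RingHom.ker_ne_top f) ?_)
  show f ((((g / h : ↥(rootsOfUnity n A)) : Aˣ) : A) - 1) = 0
  have hu : IsUnit (f ((h : Aˣ) : A)) := (h : Aˣ).isUnit.map f
  refine hu.mul_left_cancel ?_
  rw [mul_zero, ← map_mul]
  have e : ((h : Aˣ) : A) * ((((g / h : ↥(rootsOfUnity n A)) : Aˣ) : A) - 1) = ((g : Aˣ) : A) - ((h : Aˣ) : A) := by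
    rw [mul_sub, mul_one, ← Units.val_mul, ← Subgroup.coe_mul, mul_div_cancel]
  rw [e, map_sub, sub_eq_zero]
  exact hgh

theorem finite_rootsOfUnity (hn1 : 1 ≤ n) (hn : IsUnit (n : A)) : Finite ↥(rootsOfUnity n A) := by
  haveI : NeZero n := ⟨by omega⟩
  refine Finite.of_injective (fun g => restrictRootsOfUnity (residue A) n g) fun g h hgh => ?_
  exact injective_map hn (residue A) (congrArg (fun z : ↥(rootsOfUnity n (ResidueField A)) => ((z : (ResidueField A)ˣ) : ResidueField A)) hgh)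

theorem card_ge (hn1 : 1 ≤ n) (hn : IsUnit (n : A)) {ζ₀ : A} (hζ : IsPrimitiveRoot ζ₀ n) :
    n ≤ Nat.card ↥(rootsOfUnity n A) := by
  haveI : NeZero n := ⟨by omega⟩
  haveI := finite_rootsOfUnity hn1 hn
  let z : ↥(rootsOfUnity n A) := ⟨(hζ.isUnit (by omega)).unit, by
    rw [mem_rootsOfUnity]
    exact Units.ext (by simpa using hζ.pow_eq_one)⟩
  have hval : ∀ k : ℕ, (((z ^ k : ↥(rootsOfUnity n A)) : Aˣ) : A) = ζ₀ ^ k := fun k => by
    simp [z]
  have hinj : Function.Injective fun k : Fin n => z ^ (k : ℕ) := fun i j hij => Fin.ext (hζ.pow_inj i.2 j.2 (by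
    rw [← hval, ← hval]
    exact congrArg (fun w : ↥(rootsOfUnity n A) => ((w : Aˣ) : A)) hij))
  simpa using Nat.card_le_card_of_injective _ hinj

theorem exists_rootsOfUnity_eq (hn1 : 1 ≤ n) (hn : IsUnit (n : A)) {ζ₀ : A} (hζ : IsPrimitiveRoot ζ₀ n)
    {R : Type u} [Field R] (f : A →+* R) {r : R} (hr : r ^ n = 1) :
    ∃ g : ↥(rootsOfUnity n A), f ((g : Aˣ) : A) = r := by
  classical
  haveI : NeZero n := ⟨by omega⟩
  haveI := finite_rootsOfUnity hn1 hn
  letI := Fintype.ofFinite ↥(rootsOfUnity n A)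
  have hpow : ∀ g : ↥(rootsOfUnity n A), f ((g : Aˣ) : A) ^ n = 1 := fun g => by
    rw [← map_pow, ← Units.val_pow_eq_pow_val, (mem_rootsOfUnity n _).1 g.2, Units.val_one, map_one]
  let S := Finset.univ.image fun g : ↥(rootsOfUnity n A) => f ((g : Aˣ) : A)
  have hsub : S ⊆ (Polynomial.nthRoots n (1 : R)).toFinset := fun z hz => by
    obtain ⟨g, -, rfl⟩ := Finset.mem_image.1 hz
    rw [Multiset.mem_toFinset, Polynomial.mem_nthRoots (by omega)]
    exact hpow g
  have heq := Finset.eq_of_subset_of_card_le hsub (by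
    rw [Finset.card_image_of_injective _ (injective_map hn f), Finset.card_univ, ← Nat.card_eq_fintype_card]
    exact ((Multiset.toFinset_card_le _).trans (Polynomial.card_nthRoots n 1)).trans (card_ge hn1 hn hζ))
  have : r ∈ S := by
    rw [heq, Multiset.mem_toFinset, Polynomial.mem_nthRoots (by omega)]
    exact hr
  obtain ⟨g, -, hg⟩ := Finset.mem_image.1 this
  exact ⟨g, hg⟩

/-- The Kummer algebra in one variable. -/
theorem kummer_finite_etale (hn1 : 1 ≤ n) (hn : IsUnit (n : A)) (a : Aˣ) :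
    Module.Finite A (SGA1t.kummer A (fun _ : Unit => (a : A)) fun _ => n) ∧
      Algebra.Etale A (SGA1t.kummer A (fun _ : Unit => (a : A)) fun _ => n) := by
  let f : Polynomial A := Polynomial.X ^ n - Polynomial.C (a : A)
  have hm : f.Monic := Polynomial.monic_X_pow_sub_C _ (by omega)
  haveI : Module.Finite A (Polynomial A ⧸ Ideal.span {f}) := hm.finite_quotient
  haveI : Algebra.Etale A (Polynomial A ⧸ Ideal.span {f}) :=
    etale_quotient f hm (Polynomial.separable_X_pow_sub_C_unit a hn)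
  let e₀ : MvPolynomial Unit A ≃ₐ[A] Polynomial A := MvPolynomial.pUnitAlgEquiv A
  let e : SGA1t.kummer A (fun _ : Unit => (a : A)) (fun _ => n) ≃ₐ[A] Polynomial A ⧸ Ideal.span {f} :=
    Ideal.quotientEquivAlg _ _ e₀ (by
      rw [Ideal.map_span, ← Set.range_comp]
      congr 1
      ext z
      simp [e₀, f, eq_comm])
  exact ⟨Module.Finite.equiv e.symm.toLinearEquiv, Algebra.Etale.of_equiv e.symm⟩

variable {B : Type u} [CommRing B] [Algebra A B] [Module.Finite A B] [Algebra.Etale A B]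
  [Module.FaithfullyFlat A B]

theorem exists_kummer (hn1 : 1 ≤ n) (hn : IsUnit (n : A)) {ζ₀ : A} (hζ : IsPrimitiveRoot ζ₀ n)
    (σ : ↥(rootsOfUnity n A) → (B →ₐ[A] B)) (hmul : ∀ g h, σ (g * h) = (σ g).comp (σ h)) (hσ : IsFree σ) :
    ∃ (a : Aˣ) (f : SGA1t.kummer A (fun _ : Unit => (a : A)) (fun _ => n) ≃ₐ[A] B),
      ∀ z k, σ z (f k) = f (SGA1t.kummerTwist A (fun _ : Unit => (a : A)) (fun _ => n) (fun _ => z) k) := by
  classical
  haveI := finite_rootsOfUnity (A := A) hn1 hn
  letI := Fintype.ofFinite ↥(rootsOfUnity n A)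
  letI : Algebra A (AlgebraicClosure (ResidueField A)) :=
    ((algebraMap (ResidueField A) (AlgebraicClosure (ResidueField A))).comp (residue A)).toAlgebra
  obtain ⟨s₀⟩ := exists_point (A := A) (B := B) (AlgebraicClosure (ResidueField A))
  let v : ↥(rootsOfUnity n A) → A := fun g => (((g⁻¹ : ↥(rootsOfUnity n A)) : Aˣ) : A)
  obtain ⟨y, hy⟩ := exists_sum_ne_zero hσ _ s₀ (fun g => algebraMap A _ (v g)) (g₀ := 1) (by simp [v])
  let x : B := ∑ g, algebraMap A B (v g) * σ g y
  have hsx : s₀ x ≠ 0 := by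
    simp only [x, map_sum, map_mul, AlgHom.commutes]
    exact hy
  have hx : ∀ h : ↥(rootsOfUnity n A), σ h x = algebraMap A B ((h : Aˣ) : A) * x := fun h => by
    simp only [x, map_sum, map_mul, AlgHom.commutes, Finset.mul_sum]
    refine Fintype.sum_equiv (Equiv.mulLeft h) _ _ fun g => ?_
    rw [Equiv.coe_mulLeft, hmul, AlgHom.comp_apply, ← mul_assoc, ← map_mul]
    congr 2
    simp only [v, ← Units.val_mul, ← Subgroup.coe_mul, mul_inv_rev]
    rw [mul_comm g⁻¹ h⁻¹, mul_inv_cancel_left]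
  obtain ⟨a₀, ha⟩ := exists_algebraMap_eq hmul hσ (c := x ^ n) fun h => by
    rw [map_pow, hx, mul_pow, ← map_pow, ← Units.val_pow_eq_pow_val, (mem_rootsOfUnity n _).1 h.2, Units.val_one,
      map_one, one_mul]
  have hau : IsUnit a₀ := by
    rw [← IsLocalRing.residue_ne_zero_iff_isUnit]
    intro h0
    refine hsx (pow_eq_zero_iff (by omega : n ≠ 0) |>.1 ?_)
    rw [← map_pow, ← ha, AlgHom.commutes]
    show algebraMap (ResidueField A) _ (residue A a₀) = 0
    rw [h0, map_zero]
  have hxu : IsUnit x := (isUnit_pow_iff (by omega : n ≠ 0)).1 (ha ▸ hau.map (algebraMap A B))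
  let a : Aˣ := hau.unit
  obtain ⟨hfin, het⟩ := kummer_finite_etale hn1 hn a
  haveI := hfin
  haveI := het
  let φ : SGA1t.kummer A (fun _ : Unit => (a : A)) (fun _ => n) →ₐ[A] B :=
    Ideal.Quotient.liftₐ _ (MvPolynomial.aeval fun _ => x) fun w hw => by
      refine (Ideal.span_le (I := RingHom.ker (MvPolynomial.aeval (R := A) fun _ : Unit => x))).2 ?_ hw
      rintro _ ⟨i, rfl⟩
      simp [a, ha]
  let T : SGA1t.kummer A (fun _ : Unit => (a : A)) (fun _ => n) := Ideal.Quotient.mk _ (MvPolynomial.X ())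
  have hφT : φ T = x := MvPolynomial.aeval_X _ _
  have hφ : Function.Bijective φ := bijective_of_points φ fun Ω _ _ _ => by
    obtain ⟨s₁⟩ := exists_point (A := A) (B := B) Ω
    refine ⟨fun s t hst => ?_, fun χ => ?_⟩
    · obtain ⟨g, hg, -⟩ := hσ Ω s t
      obtain ⟨g₂, hg₂, -⟩ := hσ Ω s s
      have key : ∀ k, s x = (s.comp (σ k)) x → k = 1 := fun k hk => by
        rw [AlgHom.comp_apply, hx, map_mul, AlgHom.commutes] at hk
        refine injective_map hn (algebraMap A Ω) (a₁ := k) (a₂ := 1) ?_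
        refine (hxu.map s).mul_right_cancel ?_
        simpa using hk.symm
      have h1 : g = 1 := key g (by
        rw [hg, ← hφT]
        exact DFunLike.congr_fun hst T)
      have h2 : g₂ = 1 := key g₂ (by rw [hg₂])
      rw [← hg, h1, ← h2, hg₂]
    · have hroot : ∀ (χ' : SGA1t.kummer A (fun _ : Unit => (a : A)) (fun _ => n) →ₐ[A] Ω),
          χ' T ^ n = algebraMap A Ω a := fun χ' => by
        rw [← map_pow, ← χ'.commutes]
        refine congrArg χ' ?_
        exact Ideal.Quotient.eq.2 (Ideal.subset_span ⟨(), rfl⟩)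
      have hs : IsUnit (s₁ x) := hxu.map s₁
      obtain ⟨g, hg⟩ := exists_rootsOfUnity_eq hn1 hn hζ (algebraMap A Ω) (r := χ T / s₁ x) (by
        have h3 := hroot (s₁.comp φ)
        rw [AlgHom.comp_apply, hφT] at h3
        rw [div_pow, hroot χ, h3, div_self]
        exact (a.isUnit.map (algebraMap A Ω)).ne_zero)
      refine ⟨s₁.comp (σ g), Ideal.Quotient.algHom_ext A (MvPolynomial.algHom_ext fun i => ?_)⟩
      show (s₁.comp (σ g)) (φ T) = χ T
      rw [hφT, AlgHom.comp_apply, hx, map_mul, AlgHom.commutes, hg, div_mul_cancel₀ _ hs.ne_zero]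
  refine ⟨a, AlgEquiv.ofBijective φ hφ, fun z k => ?_⟩
  obtain ⟨q, rfl⟩ := Ideal.Quotient.mk_surjective k
  show σ z (MvPolynomial.aeval (fun _ => x) q) =
    MvPolynomial.aeval (fun _ => x) (MvPolynomial.aeval (fun _ : Unit =>
      MvPolynomial.C (((z : Aˣ) : A)) * MvPolynomial.X ()) q)
  rw [MvPolynomial.comp_aeval_apply, MvPolynomial.comp_aeval_apply]
  simp [hx]

end PrincipalCoverLib
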