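import Groth.Prelude.Def_SGA1t
import Groth.Agent.PrincipalCoverLib.Alg

/-!
# A principal cover of an affine scheme as an algebra
-/

set_option autoImplicit false
set_option linter.style.haveILetI false
set_option maxHeartbeats 800000

universe u v

open CategoryTheory AlgebraicGeometry

noncomputable section

namespace PrincipalCoverLib

variable {A : Type u} [CommRing A]

theorem exists_algebra {G : Type v} [CommGroup G] (P : FEt.Cat (Spec (CommRingCat.of A))) (ρ : G →* Aut P)
    (hP : SGA1t.IsPrincipal G P ρ) :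
    ∃ (B : Type u) (_ : CommRing B) (_ : Algebra A B) (_ : Module.Finite A B) (_ : Algebra.Etale A B)
      (_ : Module.FaithfullyFlat A B) (σ : G → (B →ₐ[A] B)) (e : P.left ≅ Spec (CommRingCat.of B)),
      e.hom ≫ Spec.map (CommRingCat.ofHom (algebraMap A B)) = P.hom ∧
      (∀ g h, σ (g * h) = (σ g).comp (σ h)) ∧ IsFree σ ∧
      ∀ g, (ρ g).hom.left ≫ e.hom = e.hom ≫ Spec.map (CommRingCat.ofHom (σ g).toRingHom) := by
  have hfin : IsFinite (show P.left ⟶ Spec (CommRingCat.of A) from P.hom) := (P.prop : FEt.prop P.hom).1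
  have het : Etale (show P.left ⟶ Spec (CommRingCat.of A) from P.hom) := (P.prop : FEt.prop P.hom).2
  haveI := hfin
  haveI : IsAffine P.left := isAffine_of_isAffineHom (show P.left ⟶ Spec (CommRingCat.of A) from P.hom)
  let B : Type u := Γ(P.left, ⊤)
  let e : P.left ≅ Spec (CommRingCat.of B) := P.left.isoSpec
  obtain ⟨φ, hφ⟩ : ∃ φ : CommRingCat.of A ⟶ CommRingCat.of B,
      Spec.map φ = e.inv ≫ (show P.left ⟶ Spec (CommRingCat.of A) from P.hom) :=
    ⟨Spec.preimage _, Spec.map_preimage _⟩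
  letI : Algebra A B := φ.hom.toAlgebra
  have hal : CommRingCat.ofHom (algebraMap A B) = φ := rfl
  have he : e.hom ≫ Spec.map (CommRingCat.ofHom (algebraMap A B)) = P.hom := by
    rw [hal, hφ, Iso.hom_inv_id_assoc]
  have h1 : IsFinite (Spec.map φ) := by
    rw [hφ]; exact MorphismProperty.RespectsIso.precomp _ _ _ hfin
  have h2 : Etale (Spec.map φ) := by
    rw [hφ]; exact MorphismProperty.RespectsIso.precomp _ _ _ het
  haveI : Module.Finite A B := RingHom.finite_algebraMap.1 ((IsFinite.SpecMap_iff φ).1 h1)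
  haveI : Algebra.Etale A B := RingHom.etale_algebraMap.1 ((HasRingHomProperty.Spec_iff (P := @Etale)).1 h2)
  haveI : Module.FaithfullyFlat A B := Module.FaithfullyFlat.of_comap_surjective fun q => by
    obtain ⟨z, hz⟩ := hP.1 q
    refine ⟨e.hom z, ?_⟩
    rw [← hz, ← he]
    rfl
  have hw : ∀ g, (ρ g).hom.left ≫ (show P.left ⟶ Spec (CommRingCat.of A) from P.hom) = P.hom := fun g =>
    Over.w (ρ g).hom.hom
  have hex : ∀ g, ∃ τ : B →ₐ[A] B, Spec.map (CommRingCat.ofHom τ.toRingHom) = e.inv ≫ (ρ g).hom.left ≫ e.hom :=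
    fun g => by
    obtain ⟨ψ, hψ⟩ : ∃ ψ : CommRingCat.of B ⟶ CommRingCat.of B, Spec.map ψ = e.inv ≫ (ρ g).hom.left ≫ e.hom :=
      ⟨Spec.preimage _, Spec.map_preimage _⟩
    have hc : φ ≫ ψ = φ := Spec.map_injective (by
      rw [Spec.map_comp, hψ, hφ]
      simp only [Category.assoc, Iso.hom_inv_id_assoc]
      rw [hw g])
    exact ⟨{ ψ.hom with commutes' := fun r => congrArg (fun f : CommRingCat.of A ⟶ CommRingCat.of B => f.hom r) hc },
      hψ⟩
  choose σ hσ using hex
  refine ⟨B, inferInstance, inferInstance, inferInstance, inferInstance, inferInstance, σ, e, he, fun g h => ?_,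
    fun Ω _ _ _ s t => ?_, fun g => ?_⟩
  · apply AlgHom.coe_ringHom_injective
    have : CommRingCat.ofHom (σ (g * h)).toRingHom =
        CommRingCat.ofHom (σ h).toRingHom ≫ CommRingCat.ofHom (σ g).toRingHom := Spec.map_injective (by
      rw [Spec.map_comp, hσ, hσ, hσ, mul_comm g h, map_mul]
      have e3 : (ρ h * ρ g).hom.left = (ρ g).hom.left ≫ (ρ h).hom.left := rfl
      rw [e3]
      simp only [Category.assoc, Iso.hom_inv_id_assoc])
    exact congrArg CommRingCat.Hom.hom this
  · let ξ : Spec (CommRingCat.of Ω) ⟶ Spec (CommRingCat.of A) := Spec.map (CommRingCat.ofHom (algebraMap A Ω))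
    let pt : (B →ₐ[A] Ω) → FEt.fiberObj ξ P := fun r => ⟨Spec.map (CommRingCat.ofHom r.toRingHom) ≫ e.inv, by
      rw [Category.assoc, ← hφ, ← Spec.map_comp]
      exact congrArg Spec.map (CommRingCat.hom_ext r.comp_algebraMap)⟩
    have hpt : Function.Injective pt := fun r r' hr => AlgHom.coe_ringHom_injective
      (congrArg CommRingCat.Hom.hom (Spec.map_injective ((cancel_mono e.inv).1 (congrArg Subtype.val hr))))
    have hmap : ∀ g r, (FEt.fiber ξ).map (ρ g).hom (pt r) = pt (r.comp (σ g)) := fun g r => by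
      refine Subtype.ext ?_
      show (Spec.map (CommRingCat.ofHom r.toRingHom) ≫ e.inv) ≫ (ρ g).hom.left =
        Spec.map (CommRingCat.ofHom (σ g).toRingHom ≫ CommRingCat.ofHom r.toRingHom) ≫ e.inv
      rw [Spec.map_comp, hσ]
      simp
    obtain ⟨g, hg, hu⟩ := hP.2 Ω ξ (pt s) (pt t)
    refine ⟨g, hpt ((hmap g s).symm.trans hg), fun g' hg' => hu g' ((hmap g' s).trans (congrArg pt hg'))⟩
  · rw [hσ, Iso.hom_inv_id_assoc]

/-- An equivariant algebra isomorphism gives an equivariant isomorphism of covers. -/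
theorem exists_iso {P : Scheme.{u}} {B K : Type u} [CommRing B] [Algebra A B] [CommRing K] [Algebra A K]
    (e : P ≅ Spec (CommRingCat.of B)) (f : K ≃ₐ[A] B) :
    ∃ e' : P ≅ Spec (CommRingCat.of K),
      e'.hom ≫ Spec.map (CommRingCat.ofHom (algebraMap A K)) = e.hom ≫ Spec.map (CommRingCat.ofHom (algebraMap A B)) ∧
      ∀ (r : P ⟶ P) (τ : B →ₐ[A] B) (κ : K →+* K), r ≫ e.hom = e.hom ≫ Spec.map (CommRingCat.ofHom τ.toRingHom) →
        (∀ k, τ (f k) = f (κ k)) → r ≫ e'.hom = e'.hom ≫ Spec.map (CommRingCat.ofHom κ) := by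
  refine ⟨e ≪≫ Scheme.Spec.mapIso f.toRingEquiv.toCommRingCatIso.op, ?_, fun r τ κ hr hk => ?_⟩
  · show (e.hom ≫ Spec.map (CommRingCat.ofHom f.toRingHom)) ≫ _ = _
    rw [Category.assoc, ← Spec.map_comp]
    congr 2
    exact CommRingCat.hom_ext (RingHom.ext fun a => f.commutes a)
  · show r ≫ e.hom ≫ Spec.map (CommRingCat.ofHom f.toRingHom) =
      (e.hom ≫ Spec.map (CommRingCat.ofHom f.toRingHom)) ≫ _
    rw [reassoc_of% hr, Category.assoc, ← Spec.map_comp, ← Spec.map_comp]
    congr 2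
    exact CommRingCat.hom_ext (RingHom.ext fun k => hk k)

end PrincipalCoverLib
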